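import Cfsg.Prelude.Def_LieExceptional
import Cfsg.Agent.Lib.Cores.PCore
import Cfsg.Agent.Lib.Cores.Basic
import Cfsg.Agent.Lib.Cores.Schmidt
import Cfsg.Agent.Lib.Cores.Fitting
import Cfsg.Agent.Lib.PSolvable.FrattiniFacts
import Cfsg.Agent.Lib.BGAppendix.FittingHall
import Cfsg.Agent.Lib.CoprimeAction.Glauberman
import Cfsg.Agent.Lib.NormalPComplement.Basic

/-!
Groups in which the centralizer of every non-identity element is nilpotent (CN groups): elementary
facts, quotients by normal abelian `p`-subgroups, maximal nilpotent subgroups.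
-/

set_option autoImplicit false

namespace CfsgLib.BGTypes

open Cfsg

variable {G : Type*} [Group G] [Finite G]

theorem exists_pow_prime_orderOf {x : G} (hx : x ≠ 1) :
    ∃ p m : ℕ, p.Prime ∧ orderOf (x ^ m) = p := by
  obtain ⟨p, hp, hd⟩ := Nat.exists_prime_and_dvd (fun h => hx (orderOf_eq_one_iff.mp h))
  exact ⟨p, orderOf x / p, hp, orderOf_pow_orderOf_div (orderOf_pos x).ne' hd⟩

theorem ne_one_of_orderOf_prime {x : G} {p : ℕ} (hp : p.Prime) (h : orderOf x = p) : x ≠ 1 :=
  fun h1 => hp.one_lt.ne' (by rw [← h, h1, orderOf_one])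

theorem commute_of_mem_nilpotent {H : Subgroup G} (hH : Group.IsNilpotent H) {x y : G}
    (hx : x ∈ H) (hy : y ∈ H) (hcop : (orderOf x).Coprime (orderOf y)) : x * y = y * x :=
  congrArg Subtype.val (CfsgLib.BGAppendix.commute_of_coprime_orderOf H ⟨x, hx⟩ ⟨y, hy⟩
    (by rwa [Subgroup.orderOf_mk, Subgroup.orderOf_mk])).eq

/-- A finite group in which elements of coprime prime power orders commute is nilpotent. -/
theorem isNilpotent_of_commute_primePow {H : Type*} [Group H] [Finite H]
    (h : ∀ p q : ℕ, p.Prime → q.Prime → p ≠ q → ∀ x y : H, (∃ i, orderOf x = p ^ i) →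
      (∃ j, orderOf y = q ^ j) → x * y = y * x) : Group.IsNilpotent H := by
  have h1 : Group.IsNilpotent H ↔ ∀ (p : ℕ) (_hp : Fact p.Prime) (S : Sylow p H), (S : Subgroup H).Normal :=
    (Group.isNilpotent_of_finite_tfae (G := H)).out 0 3
  refine h1.mpr fun p hp P => ?_
  rw [← Subgroup.normalizer_eq_top_iff]
  by_contra hne
  obtain ⟨q, hq, hd⟩ := Nat.exists_prime_and_dvd (fun h1 => hne (Subgroup.index_eq_one.mp h1))
  have : Fact q.Prime := ⟨hq⟩
  have hdG : q ∣ (P : Subgroup H).index := hd.trans (Subgroup.index_dvd_of_le Subgroup.le_normalizer)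
  have hpq : p ≠ q := fun he => P.not_dvd_index (he ▸ hdG)
  let Q : Sylow q H := default
  refine Q.not_dvd_index (hd.trans (Subgroup.index_dvd_of_le fun y hy => ?_))
  refine Subgroup.centralizer_le_normalizer _ (Subgroup.mem_centralizer_iff.mpr fun x hx => ?_)
  obtain ⟨i, hi⟩ := IsPGroup.iff_orderOf.mp P.2 ⟨x, hx⟩
  obtain ⟨j, hj⟩ := IsPGroup.iff_orderOf.mp Q.2 ⟨y, hy⟩
  rw [Subgroup.orderOf_mk] at hi hj
  exact h p q hp.out hq hpq x y ⟨i, hi⟩ ⟨j, hj⟩

/-- A subgroup is contained in `H` as soon as all its elements of prime power order are. -/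
theorem le_of_forall_primePow {K H : Subgroup G}
    (h : ∀ g ∈ K, ∀ q i : ℕ, q.Prime → orderOf g = q ^ i → g ∈ H) : K ≤ H := by
  rw [← Subgroup.subgroupOf_eq_top, ← Subgroup.index_eq_one]
  by_contra hne
  obtain ⟨q, hq, hd⟩ := Nat.exists_prime_and_dvd hne
  have : Fact q.Prime := ⟨hq⟩
  let Q : Sylow q K := default
  refine Q.not_dvd_index (hd.trans (Subgroup.index_dvd_of_le fun y hy => ?_))
  obtain ⟨i, hi⟩ := IsPGroup.iff_orderOf.mp Q.2 ⟨y, hy⟩
  rw [Subgroup.orderOf_mk] at hi
  exact h y y.2 q i hq (by rw [Subgroup.orderOf_coe]; exact hi)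

/-- An element commuting with a non-identity element of a nilpotent subgroup of coprime order, in a
CN group, centralizes that subgroup. -/
theorem commute_nilpotent_of_commute (hCN : IsCNGroup G) {K : Subgroup G} (hK : Group.IsNilpotent K)
    {e h : G} (hh : h ∈ K) (h1 : h ≠ 1) (hcop : (orderOf e).Coprime (Nat.card K))
    (hc : e * h = h * e) {a : G} (ha : a ∈ K) : e * a = a * e := by
  have hne : Nontrivial K := nontrivial_of_ne ⟨h, hh⟩ 1 fun he => h1 (congrArg Subtype.val he)
  have := hK
  have hZ : (⊤ : Subgroup K) ⊓ Subgroup.center K ≠ ⊥ :=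
    CfsgLib.PSolvable.inf_center_ne_bot top_ne_bot
  obtain ⟨z, hz, hz1⟩ := (Subgroup.bot_or_exists_ne_one _).resolve_left hZ
  have hzc : ∀ b ∈ K, b * (z : G) = z * b := fun b hb =>
    congrArg Subtype.val (Subgroup.mem_center_iff.mp hz.2 ⟨b, hb⟩)
  have hz1' : (z : G) ≠ 1 := fun he => hz1 (Subtype.ext he)
  have key : ∀ w : G, w ≠ 1 → ∀ b ∈ K, e * w = w * e → b * w = w * b → e * b = b * e := by
    intro w hw b hb hew hbw
    refine commute_of_mem_nilpotent (hCN w hw) ?_ ?_ (hcop.coprime_dvd_right ?_)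
    · exact Subgroup.mem_centralizer_singleton_iff.mpr hew
    · exact Subgroup.mem_centralizer_singleton_iff.mpr hbw
    · exact Subgroup.orderOf_dvd_natCard K hb
  have hez : e * (z : G) = z * e := key h h1 z z.2 hc (hzc h hh).symm
  exact key z hz1' a ha hez (hzc a ha)

theorem isCNGroup_of_injective {H : Type*} [Group H] (f : H →* G) (hf : Function.Injective f)
    (hCN : IsCNGroup G) : IsCNGroup H := by
  intro x hx
  have h1 : f x ≠ 1 := fun h => hx (hf (h.trans f.map_one.symm))
  have := hCN _ h1
  let g : Subgroup.centralizer ({x} : Set H) →* Subgroup.centralizer ({f x} : Set G) :=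
    (f.comp (Subgroup.centralizer ({x} : Set H)).subtype).codRestrict _ fun y =>
      Subgroup.mem_centralizer_singleton_iff.mpr (by
        show f (y : H) * f x = f x * f (y : H)
        rw [← map_mul, ← map_mul, Subgroup.mem_centralizer_singleton_iff.mp y.2])
  exact Subgroup.isNilpotent_of_ker_le_center g (by
    rw [(MonoidHom.ker_eq_bot_iff g).mpr fun a b hab => Subtype.ext (hf (congrArg Subtype.val hab))]
    exact bot_le)

/-! ### Quotient by a normal abelian `p`-subgroup -/

theorem isNilpotent_centralizer_mk (hCN : IsCNGroup G) {p : ℕ} [hp : Fact p.Prime] (A : Subgroup G)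
    [A.Normal] [IsMulCommutative A] (hA : IsPGroup p A) (hA1 : A ≠ ⊥) {q : ℕ} (hq : q.Prime) (x₀ : G)
    (hx₀ : orderOf (QuotientGroup.mk' A x₀) = q) :
    Group.IsNilpotent (Subgroup.centralizer ({QuotientGroup.mk' A x₀} : Set (G ⧸ A))) := by
  set f := QuotientGroup.mk' A with hf
  have hfs : Function.Surjective f := QuotientGroup.mk'_surjective A
  have hAN : ∀ g : G, g ∈ Subgroup.normalizer (A : Set G) := fun g =>
    Subgroup.le_normalizer_of_normal (Subgroup.mem_top g)
  obtain ⟨a, ha⟩ := IsPGroup.iff_card.mp hA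
  have hAsol : Group.IsSolvable A :=
    Group.isSolvable_of_comm fun u v => (IsMulCommutative.is_comm (M := A)).comm u v
  by_cases hqp : q = p
  swap
  · -- choose a lift of order `q`
    obtain ⟨x, hxq, hgen⟩ : ∃ x : G, x ^ q = 1 ∧
        Subgroup.centralizer ({f x₀} : Set (G ⧸ A)) ≤ Subgroup.centralizer ({f x} : Set (G ⧸ A)) ∧
        f x ≠ 1 := by
      refine ⟨x₀ ^ Nat.card A, ?_, fun c hc => ?_, ?_⟩
      · have hm : x₀ ^ q ∈ A := (QuotientGroup.eq_one_iff _).mp (by
          show f (x₀ ^ q) = 1
          rw [map_pow, ← hx₀, pow_orderOf_eq_one])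
        rw [← pow_mul, mul_comm, pow_mul]
        exact congrArg Subtype.val (pow_card_eq_one' (x := (⟨x₀ ^ q, hm⟩ : A)))
      · rw [map_pow]
        exact Subgroup.mem_centralizer_singleton_iff.mpr
          ((show Commute c (f x₀) from Subgroup.mem_centralizer_singleton_iff.mp hc).pow_right _).eq
      · rw [map_pow, Ne, ← orderOf_dvd_iff_pow_eq_one, hx₀, ha]
        exact fun hd => hqp ((Nat.prime_dvd_prime_iff_eq hq hp.out).mp (hq.dvd_of_dvd_pow hd))
    have hx1 : x ≠ 1 := fun h => hgen.2 (by rw [h, map_one])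
    have hxo : orderOf x = q := by
      have := hq
      rcases (Nat.dvd_prime hq).mp (orderOf_dvd_of_pow_eq_one hxq) with h | h
      · exact absurd (orderOf_eq_one_iff.mp h) hx1
      · exact h
    refine CfsgLib.Cores.isNilpotent_of_le ?_ hgen.1
    have hle : Subgroup.centralizer ({f x} : Set (G ⧸ A)) ≤
        (Subgroup.centralizer ({x} : Set G)).map f := by
      intro cb hc
      obtain ⟨c, rfl⟩ := hfs cb
      have hcop : (Nat.card (Subgroup.zpowers x)).Coprime (Nat.card A) := by
        rw [Nat.card_zpowers, hxo, ha]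
        exact ((Nat.coprime_primes hq hp.out).mpr hqp).pow_right a
      have hc' := Subgroup.mem_centralizer_singleton_iff.mp hc
      rw [← map_mul, ← map_mul] at hc'
      obtain ⟨d, hd, hdA⟩ := CfsgLib.CoprimeAction.exists_centralizer_mem_coset
        (fun y _ => hAN y) hcop (Or.inr inferInstance) c (by
          intro y hy
          obtain ⟨n, rfl⟩ := Subgroup.mem_zpowers_iff.mp hy
          refine (QuotientGroup.eq_one_iff _).mp ?_
          show f (c⁻¹ * (x ^ n * c * (x ^ n)⁻¹)) = 1
          have hcomm : Commute (f c) (f x ^ n) :=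
            ((show Commute (f c) (f x) by
              rw [Commute, SemiconjBy, ← map_mul, ← map_mul]; exact hc').zpow_right n)
          rw [map_mul, map_inv, map_mul, map_mul, map_inv, map_zpow, ← hcomm.eq,
            mul_inv_cancel_right, inv_mul_cancel])
      refine ⟨d, Subgroup.mem_centralizer_singleton_iff.mpr
        (Subgroup.mem_centralizer_iff.mp hd x (Subgroup.mem_zpowers x)).symm, ?_⟩
      exact ((QuotientGroup.eq).mpr hdA).symm
    have := hCN x hx1
    exact CfsgLib.Cores.isNilpotent_of_le (CfsgLib.Cores.isNilpotent_map _ f) hle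
  · -- the preimage is itself nilpotent
    subst hqp
    have hx1 : x₀ ∉ A := fun h => ne_one_of_orderOf_prime hq hx₀ ((QuotientGroup.eq_one_iff _).mpr h)
    let X := A ⊔ Subgroup.zpowers x₀
    let C := (Subgroup.centralizer ({f x₀} : Set (G ⧸ A))).comap f
    have hxC : x₀ ∈ C := Subgroup.mem_centralizer_singleton_iff.mpr rfl
    have hAC : A ≤ C := fun b hb => Subgroup.mem_centralizer_singleton_iff.mpr (by
      show f b * f x₀ = f x₀ * f b
      rw [show f b = 1 from (QuotientGroup.eq_one_iff _).mpr hb, one_mul, mul_one])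
    have hXp : IsPGroup q X := by
      intro ⟨y, hy⟩
      have hmap : f y ∈ Subgroup.zpowers (f x₀) := by
        have h1 : X.map f ≤ Subgroup.zpowers (f x₀) := by
          rw [Subgroup.map_sup, MonoidHom.map_zpowers]
          refine sup_le ?_ le_rfl
          rintro _ ⟨b, hb, rfl⟩
          rw [show f b = 1 from (QuotientGroup.eq_one_iff _).mpr hb]
          exact one_mem _
        exact h1 (Subgroup.mem_map_of_mem f hy)
      obtain ⟨n, hn⟩ := Subgroup.mem_zpowers_iff.mp hmap
      have h2 : y ^ q ∈ A := (QuotientGroup.eq_one_iff _).mp (by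
        show f (y ^ q) = 1
        rw [map_pow, ← hn, ← zpow_natCast, ← zpow_mul, mul_comm, zpow_mul, zpow_natCast, ← hx₀,
          pow_orderOf_eq_one, one_zpow])
      obtain ⟨k, hk⟩ := hA ⟨_, h2⟩
      refine ⟨k + 1, Subtype.ext ?_⟩
      rw [pow_succ', pow_mul]
      have h3 := congrArg Subtype.val hk
      simpa using h3
    have hXn : C ≤ Subgroup.normalizer (X : Set G) := by
      have hinv : ∀ c ∈ C, ∀ y ∈ X, c * y * c⁻¹ ∈ X := by
        intro c hc y hy
        have : X ≤ X.comap (MulAut.conj c).toMonoidHom := by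
          refine sup_le (fun b hb => ?_) (Subgroup.zpowers_le.mpr ?_)
          · exact Subgroup.mem_sup_left ((Subgroup.mem_normalizer_iff.mp (hAN c) b).mp hb)
          · have h1 : c * x₀ * c⁻¹ * x₀⁻¹ ∈ A := (QuotientGroup.eq_one_iff _).mp (by
              show f (c * x₀ * c⁻¹ * x₀⁻¹) = 1
              rw [map_mul, map_mul, map_mul, map_inv, map_inv,
                Subgroup.mem_centralizer_singleton_iff.mp hc]
              group)
            have h2 := Subgroup.mul_mem_sup h1 (Subgroup.mem_zpowers x₀)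
            rwa [inv_mul_cancel_right] at h2
        exact this hy
      intro c hc
      exact Subgroup.mem_normalizer_fintype fun y hy => hinv c hc y hy
    -- fixed points of `p`-subgroups containing `X` on `A`
    have hfix : ∀ W : Subgroup G, IsPGroup q W → A ≤ W → ∃ h ∈ A, h ≠ 1 ∧ ∀ w ∈ W, w * h = h * w := by
      intro W hW hAW
      have := hW.isNilpotent
      have hn : (A.subgroupOf W).Normal := inferInstance
      have hb : A.subgroupOf W ≠ ⊥ := fun h => hA1 (by
        rw [← Subgroup.map_subgroupOf_eq_of_le hAW, h, Subgroup.map_bot])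
      obtain ⟨z, hz, hz1⟩ := (Subgroup.bot_or_exists_ne_one _).resolve_left
        (CfsgLib.PSolvable.inf_center_ne_bot hb)
      exact ⟨z, hz.1, fun he => hz1 (Subtype.ext he), fun w hw =>
        congrArg Subtype.val (Subgroup.mem_center_iff.mp hz.2 ⟨w, hw⟩)⟩
    -- `p'`-elements of `C` centralize `X`
    have hyX : ∀ y ∈ C, (orderOf y).Coprime q → ∀ w ∈ X, y * w = w * y := by
      intro y hy hyq w hw
      have hcop : (Nat.card (Subgroup.zpowers y)).Coprime (Nat.card A) := by
        rw [Nat.card_zpowers, ha]; exact hyq.pow_right a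
      obtain ⟨x', hx', hx'A⟩ := CfsgLib.CoprimeAction.exists_centralizer_mem_coset
        (fun z _ => hAN z) hcop (Or.inr inferInstance) x₀ (by
          intro z hz
          obtain ⟨n, rfl⟩ := Subgroup.mem_zpowers_iff.mp hz
          refine (QuotientGroup.eq_one_iff _).mp ?_
          show f (x₀⁻¹ * (y ^ n * x₀ * (y ^ n)⁻¹)) = 1
          have hcomm : Commute (f y ^ n) (f x₀) :=
            (show Commute (f y) (f x₀) from Subgroup.mem_centralizer_singleton_iff.mp hy).zpow_left n
          rw [map_mul, map_inv, map_mul, map_mul, map_inv, map_zpow, hcomm.eq,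
            mul_inv_cancel_right, inv_mul_cancel])
      have hx'X : x' ∈ X := by
        have h1 := Subgroup.mul_mem_sup hx'A (Subgroup.mem_zpowers x₀)
        have h2 : x₀ * (x₀⁻¹ * x') ∈ X :=
          mul_mem (Subgroup.mem_sup_right (Subgroup.mem_zpowers x₀)) (Subgroup.mem_sup_left hx'A)
        rwa [mul_inv_cancel_left] at h2
      have hx'1 : x' ≠ 1 := fun h => hx1 (by
        rw [h, mul_one] at hx'A
        exact A.inv_mem_iff.mp hx'A)
      have hyx' : y * x' = x' * y :=
        Subgroup.mem_centralizer_iff.mp hx' y (Subgroup.mem_zpowers y)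
      obtain ⟨h, hh, hh1, hhX⟩ := hfix X hXp le_sup_left
      have hcopX : ∀ v ∈ X, (orderOf y).Coprime (orderOf v) := fun v hv => by
        obtain ⟨k, hk⟩ := IsPGroup.iff_orderOf.mp hXp ⟨v, hv⟩
        rw [Subgroup.orderOf_mk] at hk
        rw [hk]
        exact hyq.pow_right k
      have hyh : y * h = h * y := commute_of_mem_nilpotent (hCN x' hx'1)
        (Subgroup.mem_centralizer_singleton_iff.mpr hyx')
        (Subgroup.mem_centralizer_singleton_iff.mpr (hhX x' hx'X).symm)
        (hcopX h (Subgroup.mem_sup_left hh))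
      exact commute_of_mem_nilpotent (hCN h hh1) (Subgroup.mem_centralizer_singleton_iff.mpr hyh)
        (Subgroup.mem_centralizer_singleton_iff.mpr (hhX w hw)) (hcopX w hw)
    have hC : Group.IsNilpotent C := by
      refine isNilpotent_of_commute_primePow fun r s hr hs hrs u v hu hv => Subtype.ext ?_
      obtain ⟨i, hi⟩ := hu
      obtain ⟨j, hj⟩ := hv
      rw [← Subgroup.orderOf_coe] at hi hj
      have hcrs : (orderOf (u : G)).Coprime (orderOf (v : G)) := by
        rw [hi, hj]; exact ((Nat.coprime_primes hr hs).mpr hrs).pow _ _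
      -- an element of `p`-power order against one of order prime to `p`
      have mixed : ∀ g ∈ C, ∀ y ∈ C, (∃ k, orderOf g = q ^ k) → (orderOf y).Coprime q →
          g * y = y * g := by
        rintro g hg y hy ⟨k, hk⟩ hyq
        have hW : IsPGroup q (X ⊔ Subgroup.zpowers g : Subgroup G) :=
          hXp.to_sup_of_normal_left' (IsPGroup.of_card (n := k) (by rw [Nat.card_zpowers, hk]))
            (Subgroup.zpowers_le.mpr (hXn hg))
        obtain ⟨h, hh, hh1, hhW⟩ := hfix _ hW (le_sup_left.trans le_sup_left)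
        refine commute_of_mem_nilpotent (hCN h hh1) (Subgroup.mem_centralizer_singleton_iff.mpr
          (hhW g (Subgroup.mem_sup_right (Subgroup.mem_zpowers g))))
          (Subgroup.mem_centralizer_singleton_iff.mpr
            (hyX y hy hyq h (Subgroup.mem_sup_left hh))) ?_
        rw [hk]
        exact (hyq.symm).pow_left k
      by_cases hrq : r = q
      · refine mixed u u.2 v v.2 ⟨i, hrq ▸ hi⟩ ?_
        rw [hj]
        exact ((Nat.coprime_primes hs hp.out).mpr (fun h => hrs (hrq.trans h.symm))).pow_left j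
      by_cases hsq : s = q
      · refine (mixed v v.2 u u.2 ⟨j, hsq ▸ hj⟩ ?_).symm
        rw [hi]
        exact ((Nat.coprime_primes hr hp.out).mpr hrq).pow_left i
      · have hx0 : x₀ ∈ X := Subgroup.mem_sup_right (Subgroup.mem_zpowers x₀)
        have hx0' : x₀ ≠ 1 := fun h => hx1 (h ▸ one_mem A)
        refine commute_of_mem_nilpotent (hCN x₀ hx0')
          (Subgroup.mem_centralizer_singleton_iff.mpr (hyX u u.2 ?_ x₀ hx0))
          (Subgroup.mem_centralizer_singleton_iff.mpr (hyX v v.2 ?_ x₀ hx0)) hcrs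
        · rw [hi]; exact ((Nat.coprime_primes hr hp.out).mpr hrq).pow_left i
        · rw [hj]; exact ((Nat.coprime_primes hs hp.out).mpr hsq).pow_left j
    have := hC
    have h1 := CfsgLib.Cores.isNilpotent_map C f
    rwa [Subgroup.map_comap_eq_self_of_surjective hfs] at h1

/-- The quotient of a CN group by a normal abelian `p`-subgroup is CN. -/
theorem isCNGroup_quotient_abelian (hCN : IsCNGroup G) {p : ℕ} [Fact p.Prime] (A : Subgroup G)
    [A.Normal] [IsMulCommutative A] (hA : IsPGroup p A) (hA1 : A ≠ ⊥) : IsCNGroup (G ⧸ A) := by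
  intro xb hxb
  obtain ⟨q, m, hq, hm⟩ := exists_pow_prime_orderOf hxb
  obtain ⟨x, hx⟩ := QuotientGroup.mk'_surjective A (xb ^ m)
  rw [← hx] at hm
  refine CfsgLib.Cores.isNilpotent_of_le (isNilpotent_centralizer_mk hCN A hA hA1 hq x hm) ?_
  intro c hc
  rw [hx]
  exact Subgroup.mem_centralizer_singleton_iff.mpr
    ((show Commute c xb from Subgroup.mem_centralizer_singleton_iff.mp hc).pow_right m).eq

end CfsgLib.BGTypes
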