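import Cfsg.Agent.Lib.BGTypes.CNBasic

/-!
Maximal nilpotent subgroups of CN groups.
-/

set_option autoImplicit false

namespace CfsgLib.BGTypes

open Cfsg

variable {G : Type*} [Group G] [Finite G]

/-- The Sylow `p`-subgroup of a nilpotent subgroup, inside `G`. -/
theorem mem_map_pCore_of_primePow {H : Subgroup G} (hH : Group.IsNilpotent H) {p : ℕ}
    [Fact p.Prime] {a : G} (ha : a ∈ H) {i : ℕ} (hi : orderOf a = p ^ i) :
    a ∈ (pCore p H).map H.subtype := by
  have hz : IsPGroup p (Subgroup.zpowers (⟨a, ha⟩ : H)) :=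
    IsPGroup.of_card (n := i) (by rw [Nat.card_zpowers, Subgroup.orderOf_mk, hi])
  obtain ⟨Q, hQ⟩ := hz.exists_le_sylow
  have h1 : Group.IsNilpotent H ↔ ∀ (p : ℕ) (_hp : Fact p.Prime) (S : Sylow p H), (S : Subgroup H).Normal :=
    (Group.isNilpotent_of_finite_tfae (G := H)).out 0 3
  have := h1.mp hH p inferInstance Q
  refine ⟨⟨a, ha⟩, ?_, rfl⟩
  rw [CfsgLib.Cores.pCore_eq_sylow_of_normal Q]
  exact hQ (Subgroup.mem_zpowers _)

/-- A nilpotent subgroup has central elements of every prime order dividing its order. -/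
theorem exists_central_orderOf {H : Subgroup G} (hH : Group.IsNilpotent H) {p : ℕ} (hp : p.Prime)
    (hd : p ∣ Nat.card H) : ∃ z ∈ H, orderOf z = p ∧ ∀ a ∈ H, a * z = z * a := by
  have : Fact p.Prime := ⟨hp⟩
  obtain ⟨x, hx⟩ := exists_prime_orderOf_dvd_card' (G := H) p hd
  obtain ⟨y, hy, hyx⟩ := mem_map_pCore_of_primePow hH x.2 (i := 1) (by rw [pow_one, Subgroup.orderOf_coe, hx])
  have hne : pCore p H ≠ ⊥ := fun h => by
    rw [show y = 1 from (Subgroup.eq_bot_iff_forall _).mp h y hy] at hyx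
    exact ne_one_of_orderOf_prime hp hx (Subtype.ext hyx.symm)
  have := hH
  obtain ⟨z, hz, hz1⟩ := (Subgroup.bot_or_exists_ne_one _).resolve_left
    (CfsgLib.PSolvable.inf_center_ne_bot hne)
  obtain ⟨k, hk⟩ := IsPGroup.iff_orderOf.mp (CfsgLib.Cores.isPGroup_pCore p H) ⟨z, hz.1⟩
  rw [Subgroup.orderOf_mk] at hk
  have hd' : p ∣ orderOf z := by
    rcases Nat.eq_zero_or_pos k with rfl | h
    · exact absurd (orderOf_eq_one_iff.mp (by rw [hk, pow_zero])) hz1
    · exact hk ▸ dvd_pow_self p h.ne'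
  refine ⟨(z ^ (orderOf z / p) : H), SetLike.coe_mem _, ?_, fun a ha => ?_⟩
  · rw [Subgroup.orderOf_coe]
    exact orderOf_pow_orderOf_div (orderOf_pos z).ne' hd'
  · exact congrArg Subtype.val (Subgroup.mem_center_iff.mp (Subgroup.pow_mem _ hz.2 _) ⟨a, ha⟩)

variable (hCN : IsCNGroup G) {H : Subgroup G} (hH : Group.IsNilpotent H)
  (hmax : ∀ L : Subgroup G, Group.IsNilpotent L → H ≤ L → L = H)

include hCN hmax

/-- The centralizer of a central element of a maximal nilpotent subgroup is that subgroup. -/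
theorem centralizer_central_eq {z : G} (h1 : z ≠ 1) (hc : ∀ a ∈ H, a * z = z * a) :
    Subgroup.centralizer ({z} : Set G) = H :=
  hmax _ (hCN z h1) fun a ha => Subgroup.mem_centralizer_singleton_iff.mpr (hc a ha)

include hH

/-- A maximal nilpotent subgroup of a CN group is a Hall subgroup. -/
theorem coprime_card_index_of_max : (Nat.card H).Coprime H.index := by
  refine Nat.coprime_of_dvd fun p hp hd hi => ?_
  have : Fact p.Prime := ⟨hp⟩
  let R := (pCore p H).map H.subtype
  have hRH : R ≤ H := Subgroup.map_subtype_le _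
  have hRp : IsPGroup p R := (CfsgLib.Cores.isPGroup_pCore p H).map _
  obtain ⟨P, hRP⟩ := hRp.exists_le_sylow
  have hne : R ≠ (P : Subgroup G) := fun h =>
    P.not_dvd_index (h ▸ hi.trans (Subgroup.index_dvd_of_le hRH))
  have hlt := CfsgLib.Cores.lt_normalizer_inf_of_isNilpotent P.2.isNilpotent (lt_of_le_of_ne hRP hne)
  let T := (P : Subgroup G) ⊓ Subgroup.normalizer (R : Set G)
  have hTp : IsPGroup p T := P.2.to_le inf_le_left
  have := hTp.isNilpotent
  have hRn : (R.subgroupOf T).Normal :=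
    (Subgroup.normal_subgroupOf_iff_le_normalizer hlt.le).mpr inf_le_right
  have hR1 : R ≠ ⊥ := fun h => by
    obtain ⟨x, hx⟩ := exists_prime_orderOf_dvd_card' (G := H) p hd
    have := mem_map_pCore_of_primePow hH x.2 (i := 1) (p := p) (by rw [pow_one, Subgroup.orderOf_coe, hx])
    exact ne_one_of_orderOf_prime hp hx (Subtype.ext ((Subgroup.eq_bot_iff_forall _).mp h _ this))
  obtain ⟨z, hz, hz1⟩ := (Subgroup.bot_or_exists_ne_one _).resolve_left
    (CfsgLib.PSolvable.inf_center_ne_bot (N := R.subgroupOf T) fun h => hR1 (by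
      rw [← Subgroup.map_subgroupOf_eq_of_le hlt.le, h, Subgroup.map_bot]))
  have hzT : ∀ t ∈ T, t * (z : G) = z * t := fun t ht =>
    congrArg Subtype.val (Subgroup.mem_center_iff.mp hz.2 ⟨t, ht⟩)
  have hzR : (z : G) ∈ R := hz.1
  have hz1' : (z : G) ≠ 1 := fun h => hz1 (Subtype.ext h)
  have hHC : H ≤ Subgroup.centralizer ({(z : G)} : Set G) := by
    refine le_of_forall_primePow fun a ha q i hq hai => Subgroup.mem_centralizer_singleton_iff.mpr ?_
    by_cases hqp : q = p
    · subst hqp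
      exact hzT a (hlt.le (mem_map_pCore_of_primePow hH ha hai))
    · refine commute_of_mem_nilpotent hH ha (hRH hzR) ?_
      obtain ⟨k, hk⟩ := IsPGroup.iff_orderOf.mp hRp ⟨_, hzR⟩
      rw [Subgroup.orderOf_mk] at hk
      rw [hai, hk]
      exact ((Nat.coprime_primes hq hp).mpr hqp).pow _ _
  have hC := hmax _ (hCN _ hz1') hHC
  refine hlt.not_ge fun t ht => ?_
  obtain ⟨k, hk⟩ := IsPGroup.iff_orderOf.mp hTp ⟨t, ht⟩
  rw [Subgroup.orderOf_mk] at hk
  exact mem_map_pCore_of_primePow hH (hC.le (Subgroup.mem_centralizer_singleton_iff.mpr (hzT t ht))) hk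

/-- An element of prime order of a maximal nilpotent subgroup that is not a `p`-group has centralizer
inside it. -/
theorem centralizer_le_of_max {x : G} (hx : x ∈ H) {r : ℕ} (hr : r.Prime) (hxr : orderOf x = r)
    {q : ℕ} (hq : q.Prime) (hqH : q ∣ Nat.card H) (hqr : q ≠ r) :
    Subgroup.centralizer ({x} : Set G) ≤ H := by
  have hrH : r ∣ Nat.card H := hxr ▸ Subgroup.orderOf_dvd_natCard H hx
  have key : ∀ s i : ℕ, s.Prime → ∀ g ∈ Subgroup.centralizer ({x} : Set G), orderOf g = s ^ i →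
      ∀ t : ℕ, t.Prime → t ∣ Nat.card H → t ≠ s → g ∈ H := by
    intro s i hs g hg hgi t ht htH hts
    obtain ⟨z, hz, hzt, hzc⟩ := exists_central_orderOf hH ht htH
    have hz1 := ne_one_of_orderOf_prime ht hzt
    rw [← centralizer_central_eq hCN hmax hz1 hzc]
    refine Subgroup.mem_centralizer_singleton_iff.mpr
      (commute_of_mem_nilpotent (hCN x (ne_one_of_orderOf_prime hr hxr)) hg
        (Subgroup.mem_centralizer_singleton_iff.mpr (hzc x hx).symm) ?_)
    rw [hgi, hzt]
    exact ((Nat.coprime_primes hs ht).mpr (Ne.symm hts)).pow_left i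
  refine le_of_forall_primePow fun g hg s i hs hgi => ?_
  by_cases hsr : s = r
  · exact key s i hs g hg hgi q hq hqH (hsr ▸ hqr)
  · exact key s i hs g hg hgi r hr hrH (Ne.symm hsr)

/-- A maximal nilpotent subgroup whose order is not a prime power is a TI subgroup. -/
theorem inf_conj_eq_bot_of_max (hpp : ¬ IsPrimePow (Nat.card H)) (g : G)
    (hg : H.map (MulAut.conj g).toMonoidHom ≠ H) : H ⊓ H.map (MulAut.conj g).toMonoidHom = ⊥ := by
  by_contra hne
  apply hg
  let H' := H.map (MulAut.conj g).toMonoidHom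
  have hcard : Nat.card H' = Nat.card H := Subgroup.card_map_of_injective (MulAut.conj g).injective
  have hH' : Group.IsNilpotent H' := by
    have := hH
    exact CfsgLib.Cores.isNilpotent_map H _
  have hmax' : ∀ L : Subgroup G, Group.IsNilpotent L → H' ≤ L → L = H' := by
    intro L hL hle
    have := hL
    have h := hmax (L.map (MulAut.conj g⁻¹).toMonoidHom) (CfsgLib.Cores.isNilpotent_map L _) ?_
    · show L = H.map _
      rw [← h, Subgroup.map_map]
      conv_lhs => rw [← Subgroup.map_id L]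
      congr 1
      ext y
      simp [mul_assoc]
    · intro a ha
      refine ⟨g * a * g⁻¹, hle ⟨a, ha, rfl⟩, ?_⟩
      simp [mul_assoc]
  obtain ⟨y, hy, hy1⟩ := (Subgroup.bot_or_exists_ne_one _).resolve_left hne
  obtain ⟨r, m, hr, hm⟩ := exists_pow_prime_orderOf hy1
  have hxH : y ^ m ∈ H := pow_mem hy.1 m
  have hxH' : y ^ m ∈ H' := pow_mem hy.2 m
  have hrH : r ∣ Nat.card H := hm ▸ Subgroup.orderOf_dvd_natCard H hxH
  obtain ⟨q, hq, hqH, hqr⟩ : ∃ q, q.Prime ∧ q ∣ Nat.card H ∧ q ≠ r := by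
    by_contra hcon
    push Not at hcon
    refine hpp ?_
    have hall : ∀ d : ℕ, d.Prime → d ∣ Nat.card H → d = r := hcon
    rw [Nat.eq_prime_pow_of_unique_prime_dvd Nat.card_pos.ne' fun {d} hd hdd => hall d hd hdd]
    refine hr.isPrimePow.pow ?_
    intro h0
    rw [Nat.eq_prime_pow_of_unique_prime_dvd Nat.card_pos.ne' fun {d} hd hdd => hall d hd hdd, h0,
      pow_zero] at hrH
    exact hr.not_dvd_one hrH
  obtain ⟨z, hz, hzq, hzc⟩ := exists_central_orderOf hH hq hqH
  have hz1 := ne_one_of_orderOf_prime hq hzq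
  have hzH' : z ∈ H' := centralizer_le_of_max hCN hH' hmax' hxH' hr hm hq (hcard ▸ hqH) hqr
    (Subgroup.mem_centralizer_singleton_iff.mpr (hzc _ hxH).symm)
  have hle : H ≤ H' := by
    rw [← centralizer_central_eq hCN hmax hz1 hzc]
    exact centralizer_le_of_max hCN hH' hmax' hzH' hq hzq hr (hcard ▸ hrH) (Ne.symm hqr)
  exact (Subgroup.eq_of_le_of_card_ge hle hcard.le).symm

/-- If a maximal nilpotent subgroup is TI, it contains the centralizers of its non-identity
elements. -/
theorem centralizer_le_of_ti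
    (hTI : ∀ g : G, H.map (MulAut.conj g).toMonoidHom ≠ H → H ⊓ H.map (MulAut.conj g).toMonoidHom = ⊥)
    {x : G} (hx : x ∈ H) (hx1 : x ≠ 1) : Subgroup.centralizer ({x} : Set G) ≤ H := by
  have hcop := coprime_card_index_of_max hCN hH hmax
  refine le_of_forall_primePow fun g hg s i hs hgi => ?_
  have hgx : g * x * g⁻¹ = x := by
    rw [Subgroup.mem_centralizer_singleton_iff.mp hg, mul_inv_cancel_right]
  have heq : H.map (MulAut.conj g).toMonoidHom = H := by
    by_contra h
    have h1 : x ∈ H ⊓ H.map (MulAut.conj g).toMonoidHom := ⟨hx, ⟨x, hx, hgx⟩⟩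
    rw [hTI g h, Subgroup.mem_bot] at h1
    exact hx1 h1
  have hgN : g ∈ Subgroup.normalizer (H : Set G) := Subgroup.mem_normalizer_iff_map_conj_eq.mpr heq
  by_cases hsH : s ∣ Nat.card H
  · let N := Subgroup.normalizer (H : Set G)
    let f := QuotientGroup.mk' (H.subgroupOf N)
    have h1 : orderOf (f ⟨g, hgN⟩) ∣ s ^ i := hgi ▸ by
      rw [← Subgroup.orderOf_mk g hgN]; exact orderOf_map_dvd f _
    have h2 : orderOf (f ⟨g, hgN⟩) ∣ H.index :=
      (orderOf_dvd_natCard _).trans (Subgroup.relIndex_dvd_index_of_le Subgroup.le_normalizer)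
    have h3 : (s ^ i).Coprime H.index := (hcop.coprime_dvd_left hsH).pow_left i
    have h4 := (QuotientGroup.eq_one_iff _).mp (orderOf_eq_one_iff.mp (Nat.eq_one_of_dvd_coprimes h3 h1 h2))
    exact h4
  · have h1 : H ≠ ⊥ := fun h => hx1 ((Subgroup.eq_bot_iff_forall H).mp h x hx)
    obtain ⟨t, ht, htH⟩ := Nat.exists_prime_and_dvd (fun h => h1 (Subgroup.eq_bot_of_card_eq H h))
    obtain ⟨z, hz, hzt, hzc⟩ := exists_central_orderOf hH ht htH
    rw [← centralizer_central_eq hCN hmax (ne_one_of_orderOf_prime ht hzt) hzc]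
    refine Subgroup.mem_centralizer_singleton_iff.mpr
      (commute_nilpotent_of_commute hCN hH hx hx1 ?_ (Subgroup.mem_centralizer_singleton_iff.mp hg) hz)
    rw [hgi]
    exact ((hs.coprime_iff_not_dvd).mpr hsH).pow_left i

end CfsgLib.BGTypes
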