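import Cfsg.Agent.Lib.BGTypes.CNBasic

/-!
The quotient of a CN group by a solvable normal subgroup is CN.
-/

set_option autoImplicit false

namespace CfsgLib.BGTypes

open Cfsg

universe u

/-- A nontrivial solvable normal subgroup contains a nontrivial normal abelian `p`-subgroup. -/
theorem exists_normal_abelian_pGroup_le {G : Type u} [Group G] [Finite G] {H : Subgroup G} [H.Normal]
    [Group.IsSolvable H] (hH : H ≠ ⊥) :
    ∃ (p : ℕ) (_ : Fact p.Prime) (A : Subgroup G), A.Normal ∧ IsMulCommutative A ∧ IsPGroup p A ∧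
      A ≠ ⊥ ∧ A ≤ H := by
  induction hn : Nat.card H using Nat.strong_induction_on generalizing H with
  | _ n ih =>
  by_cases hc : ⁅H, H⁆ = ⊥
  · obtain ⟨p, hp, hd⟩ := Nat.exists_prime_and_dvd
      (fun h => hH (Subgroup.eq_bot_of_card_eq H h))
    have : Fact p.Prime := ⟨hp⟩
    have hcomm : IsMulCommutative H := IsMulCommutative.of_setLike_mul_comm fun a ha b hb =>
      (Subgroup.mem_centralizer_iff.mp (Subgroup.commutator_eq_bot_iff_le_centralizer.mp hc hb) a ha)
    let P : Sylow p H := default
    have hPn : (P : Subgroup H).Normal := ⟨fun x hx g => by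
      rwa [(IsMulCommutative.is_comm (M := H)).comm g x, mul_inv_cancel_right]⟩
    have hchar : (P : Subgroup H).Characteristic := P.characteristic_of_normal hPn
    refine ⟨p, ⟨hp⟩, (P : Subgroup H).map H.subtype, CfsgLib.Cores.normal_map_subtype H _,
      Subgroup.map_isMulCommutative _ _, P.2.map _, fun h => P.ne_bot_of_dvd_card hd
        ((Subgroup.map_eq_bot_iff_of_injective _ H.subtype_injective).mp h), Subgroup.map_subtype_le _⟩
  · have hlt : ⁅H, H⁆ < H := by
      have : Nontrivial H := H.nontrivial_iff_ne_bot.mpr hH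
      have h := Subgroup.map_subtype_lt_map_subtype.mpr
        (Group.IsSolvable.commutator_lt_top_of_nontrivial H)
      rwa [Subgroup.map_subtype_commutator, ← MonoidHom.range_eq_map, Subgroup.range_subtype] at h
    have : Group.IsSolvable (⁅H, H⁆ : Subgroup G) :=
      Group.isSolvable_of_isSolvable_injective (f := Subgroup.inclusion hlt.le)
        (Subgroup.inclusion_injective hlt.le)
    obtain ⟨p, hp, A, h1, h2, h3, h4, h5⟩ := ih _ (hn ▸ lt_of_le_of_ne (Subgroup.card_le_of_le hlt.le)
      fun he => hlt.ne (Subgroup.eq_of_le_of_card_ge hlt.le he.ge)) hc rfl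
    exact ⟨p, hp, A, h1, h2, h3, h4, h5.trans hlt.le⟩

theorem isCNGroup_congr {G H : Type*} [Group G] [Group H] [Finite G] (e : H ≃* G) (hCN : IsCNGroup G) :
    IsCNGroup H := isCNGroup_of_injective e.toMonoidHom e.injective hCN

/-- The quotient of a CN group by a solvable normal subgroup is CN. -/
theorem isCNGroup_quotient {G : Type u} [Group G] [Finite G] (hCN : IsCNGroup G) (H : Subgroup G)
    [H.Normal] [Group.IsSolvable H] : IsCNGroup (G ⧸ H) := by
  induction hn : Nat.card H using Nat.strong_induction_on generalizing G with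
  | _ n ih =>
  by_cases hH : H = ⊥
  · subst hH
    exact isCNGroup_congr QuotientGroup.quotientBot hCN
  obtain ⟨p, hp, A, hAn, hAc, hAp, hA1, hAH⟩ := exists_normal_abelian_pGroup_le hH
  have hq := isCNGroup_quotient_abelian hCN A hAp hA1
  let f := QuotientGroup.mk' A
  have hHn : (H.map f).Normal := Subgroup.Normal.map inferInstance f (QuotientGroup.mk'_surjective A)
  have hsol : Group.IsSolvable (H.map f) :=
    Group.isSolvable_of_surjective (f := f.subgroupMap H) (f.subgroupMap_surjective H)
  have hlt : Nat.card (H.map f) < n := by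
    rw [← hn]
    refine lt_of_le_of_ne (Nat.card_le_card_of_surjective _ (f.subgroupMap_surjective H)) fun he => hA1 ?_
    have hb : Function.Bijective (f.subgroupMap H) :=
      (Nat.bijective_iff_surjective_and_card _).mpr ⟨f.subgroupMap_surjective H, he.symm⟩
    refine (Subgroup.eq_bot_iff_forall A).mpr fun a ha => ?_
    have h : f.subgroupMap H ⟨a, hAH ha⟩ = f.subgroupMap H 1 :=
      Subtype.ext (((QuotientGroup.eq_one_iff a).mpr ha).trans (map_one f).symm)
    exact congrArg Subtype.val (hb.1 h)
  exact isCNGroup_congr (QuotientGroup.quotientQuotientEquivQuotient A H hAH).symm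
    (ih _ hlt hq (H.map f) rfl)

end CfsgLib.BGTypes
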