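import Cfsg.Agent.Lib.BGUniqueness.Fitting
import Cfsg.Agent.Lib.BGAppendix.Coprime
import Cfsg.Agent.Lib.Balance.SigFamily

/-!
Invariant subgroups of order prime to the Fitting subgroup of a maximal local subgroup, in a solvable
subgroup normalised by the Fitting centres (Bender).
-/

set_option autoImplicit false
set_option linter.style.haveILetI false

namespace CfsgLib.BGTypes

open Cfsg CfsgLib.BGUniqueness

universe u

variable {G : Type u} [Group G] [Finite G]

/-- A subgroup `Y` of the solvable group `X`, of order prime to `F(M)`, normalised by the centres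
`Z(O_r(M))` and meeting their centralisers trivially lies in `O_{π'}(X)`. -/
theorem le_piCoreOf_of_zIn_invariant {M X Y : Subgroup G} {r₀ s₀ : ℕ} (hne : r₀ ≠ s₀)
    (hr₀ : r₀.Prime ∧ r₀ ∣ Nat.card (fittingOf M)) (hs₀ : s₀.Prime ∧ s₀ ∣ Nat.card (fittingOf M))
    (hC : ∀ r : ℕ, r.Prime → r ∣ Nat.card (fittingOf M) →
      Subgroup.centralizer (zIn r M : Set G) ≤ M)
    (hX : Group.IsSolvable X) (hzX : ∀ r : ℕ, r.Prime → zIn r M ≤ X) (hYX : Y ≤ X)
    (hYc : (Nat.card Y).Coprime (Nat.card (fittingOf M)))
    (hzY : ∀ r : ℕ, r.Prime → zIn r M ≤ Subgroup.normalizer (Y : Set G))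
    (hfixY : ∀ s : ℕ, s.Prime → s ∣ Nat.card (fittingOf M) →
      Y ⊓ Subgroup.centralizer (zIn s M : Set G) = ⊥) :
    Y ≤ piCoreOf (primesNotDvd (Nat.card (fittingOf M))) X := by
  haveI := hX
  set π := primesNotDvd (Nat.card (fittingOf M)) with hπ
  have hY : IsPiSubgroup π Y := piSubgroup_primesNotDvd_iff_coprime.mpr hYc
  set f := QuotientGroup.mk' (piCore π X) with hf
  have hsurj : Function.Surjective f := QuotientGroup.mk'_surjective _
  haveI : Group.IsSolvable (↥X ⧸ piCore π X) := Group.isSolvable_of_surjective hsurj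
  set Yb := (Y.subgroupOf X).map f with hYb
  suffices hYb1 : Yb = ⊥ by
    rw [hYb, Subgroup.map_eq_bot_iff, hf, QuotientGroup.ker_mk'] at hYb1
    calc Y = (Y.subgroupOf X).map X.subtype := (Subgroup.map_subgroupOf_eq_of_le hYX).symm
      _ ≤ piCoreOf π X := Subgroup.map_mono hYb1
  -- the image centralizes every prime core of the quotient
  have hcent : ∀ r : ℕ, r.Prime → Yb ≤ Subgroup.centralizer (pCore r (↥X ⧸ piCore π X) : Set _) := by
    intro r hr
    haveI := Fact.mk hr
    by_cases hrF : r ∣ Nat.card (fittingOf M)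
    · obtain ⟨s, hsr, hs, hsF⟩ := exists_ne_prime hne hr₀ hs₀ r
      haveI := Fact.mk hs
      have hrX : zIn r M ≤ X := hzX r hr
      have hsX : zIn s M ≤ X := hzX s hs
      set Q := pCore r (↥X ⧸ piCore π X) with hQ
      have hQn : ∀ V : Subgroup (↥X ⧸ piCore π X), V ≤ Subgroup.normalizer (Q : Set _) := fun V =>
        le_top.trans (Subgroup.normalizer_eq_top_iff.mpr (inferInstance : Q.Normal)).ge
      have hrp : IsPGroup r (((zIn r M).subgroupOf X).map f) :=
        ((zIn_isPGroup r M).of_equiv (Subgroup.subgroupOfEquivOfLe hrX).symm).map f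
      have hsp : IsPGroup s (((zIn s M).subgroupOf X).map f) :=
        ((zIn_isPGroup s M).of_equiv (Subgroup.subgroupOfEquivOfLe hsX).symm).map f
      have hZs : ((zIn s M).subgroupOf X).map f ≤ Subgroup.centralizer (Q : Set _) := by
        refine CoprimeAction.pxq (p := r) hrp
          (not_dvd_iff_coprime.mp (not_dvd_of_isPGroup hsr hsp)) (Cores.isPGroup_pCore r _) ?_
          (hQn _) (hQn _) ?_
        · rintro _ ⟨a, ha, rfl⟩
          refine Subgroup.mem_centralizer_iff.mpr ?_
          rintro _ ⟨b, hb, rfl⟩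
          rw [← map_mul, ← map_mul]
          congr 1
          exact Subtype.ext (Subgroup.mem_centralizer_iff.mp
            (opIn_le_centralizer hsr.symm M (zIn_le r M ha)) (b : G) (zIn_le s M hb))
        · rintro d ⟨hdQ, hdc⟩
          obtain ⟨x, rfl⟩ := hsurj d
          have hcop : (Nat.card ((zIn r M).subgroupOf X)).Coprime (Nat.card (piCore π X)) := by
            refine coprime_card_of_pGroup
              ((zIn_isPGroup r M).of_equiv (Subgroup.subgroupOfEquivOfLe hrX).symm) fun hd => ?_
            exact (BGAppendix.piSubgroup_piCore r hr hd).2 hrF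
          have hfix : ∀ a ∈ (zIn r M).subgroupOf X, x⁻¹ * (a * x * a⁻¹) ∈ piCore π X := by
            intro a ha
            refine (QuotientGroup.eq_one_iff _).mp ?_
            have h1 := Subgroup.mem_centralizer_iff.mp hdc (f a) ⟨a, ha, rfl⟩
            show f (x⁻¹ * (a * x * a⁻¹)) = 1
            rw [map_mul, map_mul, map_mul, map_inv, map_inv, h1]
            group
          obtain ⟨c, hc, hxc⟩ := CoprimeAction.exists_centralizer_mem_coset_of_le
            (A := (zIn r M).subgroupOf X) (K := ⊤) (N := piCore π X)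
            (le_top.trans (Subgroup.normalizer_eq_top_iff.mpr inferInstance).ge) le_top hcop
            (Or.inr inferInstance) (k := x) trivial hfix
          have hfc : f c = f x := by
            have h1 : f (x⁻¹ * c) = 1 := (QuotientGroup.eq_one_iff _).mpr hxc
            rwa [map_mul, map_inv, inv_mul_eq_one, eq_comm] at h1
          have hcM : (c : G) ∈ M := by
            refine hC r hr hrF ?_
            refine Subgroup.mem_centralizer_iff.mpr fun z hz => ?_
            exact congrArg Subtype.val (Subgroup.mem_centralizer_iff.mp hc.2 ⟨z, hrX hz⟩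
              (Subgroup.mem_subgroupOf.mpr hz))
          refine Subgroup.mem_centralizer_iff.mpr ?_
          rintro _ ⟨z, hz, rfl⟩
          have h1 : c * z * c⁻¹ * z⁻¹ ∈ (zIn s M).subgroupOf X :=
            Subgroup.mem_subgroupOf.mpr (by
              simpa using commutator_mem_right (Subgroup.mem_subgroupOf.mp hz)
                (le_normalizer_zIn s M hcM))
          have h2 : f (c * z * c⁻¹ * z⁻¹) ∈ Q ⊓ ((zIn s M).subgroupOf X).map f := by
            refine ⟨?_, ⟨_, h1, rfl⟩⟩
            rw [map_mul, map_mul, map_mul, map_inv, map_inv, hfc]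
            exact commutator_mem_left hdQ (hQn ⊤ trivial)
          rw [disjoint_of_pGroup (Cores.isPGroup_pCore r _) (not_dvd_of_isPGroup hsr hsp),
            Subgroup.mem_bot, map_mul, map_mul, map_mul, map_inv, map_inv, hfc] at h2
          calc f z * f x = (f x * f z * (f x)⁻¹ * (f z)⁻¹) * f z * f x := by rw [h2, one_mul]
            _ = f x * f z := by simp [mul_assoc]
      -- `Y = [Y, Z(O_s(M))]`
      have hsY : zIn s M ≤ Subgroup.normalizer (Y : Set G) := hzY s hs
      have hfix := hfixY s hs hsF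
      have hcomm := CoprimeAction.commutator_sup_centralizer hsY
        (Nat.Coprime.symm (hYc.coprime_dvd_right (Subgroup.card_dvd_of_le
          ((zIn_le s M).trans (opIn_le_fittingOf s M)))))
        (Or.inr (isSolvable_of_le hYX hX))
      rw [hfix, sup_bot_eq] at hcomm
      rintro _ ⟨y, hy, rfl⟩
      have hgen : (y : G) ∈ ((Subgroup.centralizer (Q : Set _)).comap f).map X.subtype := by
        have hy' : (y : G) ∈ ⁅Y, zIn s M⁆ := by rw [hcomm]; exact hy
        refine Subgroup.commutator_le.mpr ?_ hy'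
        intro a ha b hb
        refine ⟨⟨a, hYX ha⟩ * ⟨b, hsX hb⟩ * ⟨a, hYX ha⟩⁻¹ * ⟨b, hsX hb⟩⁻¹, ?_, rfl⟩
        rw [SetLike.mem_coe, Subgroup.mem_comap, map_mul, map_mul, map_mul, map_inv, map_inv]
        refine commutator_mem_right (hZs ⟨⟨b, hsX hb⟩, hb, rfl⟩) ?_
        exact (Subgroup.normalizer_eq_top_iff.mpr (inferInstance :
          (Subgroup.centralizer (Q : Set (↥X ⧸ piCore π X))).Normal)).ge trivial
      obtain ⟨y', hy', he⟩ := hgen
      rw [← Subtype.ext he]
      exact hy'
    · -- a prime outside `π(F(M))`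
      have hbot : pCore r (↥X ⧸ piCore π X) = ⊥ := by
        rw [← Subgroup.map_comap_eq_self_of_surjective hsurj (pCore r (↥X ⧸ piCore π X)),
          Subgroup.map_eq_bot_iff, hf, QuotientGroup.ker_mk']
        refine BGAppendix.le_piCore inferInstance fun q hq hd => ?_
        rw [Cores.card_comap_mk'] at hd
        rcases hq.dvd_mul.mp hd with h | h
        · exact BGAppendix.piSubgroup_piCore q hq h
        · obtain ⟨n, hn⟩ := IsPGroup.iff_card.mp (Cores.isPGroup_pCore r (↥X ⧸ piCore π X))
          rw [hn] at h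
          rw [(Nat.prime_dvd_prime_iff_eq hq hr).mp (hq.dvd_of_dvd_pow h)]
          exact ⟨hr, hrF⟩
      rw [hbot]
      exact fun y _ => Subgroup.mem_centralizer_iff.mpr fun b hb => by
        rw [SetLike.mem_coe, Subgroup.mem_bot] at hb; simp [hb]
  have hYbF : Yb ≤ fittingSubgroup (↥X ⧸ piCore π X) := by
    refine le_trans ?_ Cores.centralizer_fittingSubgroup_le
    rw [Subgroup.le_centralizer_iff, Cores.fittingSubgroup_eq_iSup_pCore]
    refine iSup_le fun r => ?_
    rw [Subgroup.le_centralizer_iff]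
    exact hcent r (Nat.prime_of_mem_primeFactors r.2)
  by_contra hne'
  obtain ⟨q, hq, hqd⟩ := Nat.exists_prime_and_dvd (fun e => hne' (Subgroup.card_eq_one.mp e))
  haveI := Fact.mk hq
  have hqY : q ∣ Nat.card Y := by
    rw [← Nat.card_congr (Subgroup.subgroupOfEquivOfLe hYX).toEquiv]
    exact hqd.trans (Subgroup.card_map_dvd _ f)
  obtain ⟨x, hx⟩ := exists_prime_orderOf_dvd_card' q hqd
  have h1 : (x : ↥X ⧸ piCore π X) ∈ pCore q (↥X ⧸ piCore π X) := by
    refine Cores.le_pCore_of_subnormal (P := Subgroup.zpowers (x : ↥X ⧸ piCore π X)) ?_ ?_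
      (Subgroup.mem_zpowers _)
    · exact Subnormal.isSubnormal_of_le_normal ((Subgroup.zpowers_le).mpr (hYbF x.2))
        (Subnormal.isSubnormal_subgroupOf_of_isNilpotent Cores.isNilpotent_fittingSubgroup)
    · refine IsPGroup.of_card (n := 1) ?_
      rw [Nat.card_zpowers, Subgroup.orderOf_coe, hx, pow_one]
  have hcard : Nat.card (pCore q (↥X ⧸ piCore π X)) ≠ 1 := fun e => by
    rw [Subgroup.card_eq_one.mp e, Subgroup.mem_bot] at h1
    rw [← Subgroup.orderOf_coe, h1, orderOf_one] at hx
    exact hq.ne_one hx.symm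
  apply hcard
  rw [Subgroup.card_eq_one, ← Subgroup.map_comap_eq_self_of_surjective hsurj (pCore q _),
    Subgroup.map_eq_bot_iff, hf, QuotientGroup.ker_mk']
  refine BGAppendix.le_piCore inferInstance fun t ht hd => ?_
  rw [Cores.card_comap_mk'] at hd
  rcases ht.dvd_mul.mp hd with h | h
  · exact BGAppendix.piSubgroup_piCore t ht h
  · obtain ⟨n, hn⟩ := IsPGroup.iff_card.mp (Cores.isPGroup_pCore q (↥X ⧸ piCore π X))
    rw [hn] at h
    rw [(Nat.prime_dvd_prime_iff_eq ht hq).mp (ht.dvd_of_dvd_pow h)]
    exact hY q hq hqY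

end CfsgLib.BGTypes
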