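import Cfsg.Agent.S1424
import Cfsg.Agent.S1426
import Cfsg.Agent.S1427
import Cfsg.Agent.S1428

/-! Short names for the BG 12-13 results used in BG 14 (proved by other seats). -/
namespace CfsgLib.BGTypes.Deps
alias S1424 := Cfsg.Agent.S1424.result
alias S1426 := Cfsg.Agent.S1426.result
alias S1427 := Cfsg.Agent.S1427.result
alias S1428 := Cfsg.Agent.S1428.result
end CfsgLib.BGTypes.Deps
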